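import Groth.Agent.SmoothDim.Basic
import Mathlib.RingTheory.GradedAlgebra.Radical
import Mathlib.RingTheory.MvPolynomial.Homogeneous
import Mathlib.RingTheory.Nullstellensatz
import Mathlib.RingTheory.Ideal.KrullsHeightTheorem
import Mathlib.RingTheory.Ideal.MinimalPrime.Noetherian
import Mathlib.GroupTheory.CosetCover

/-!
# Linear sections of cones
-/

universe u

open MvPolynomial

namespace Groth.Agent.CIBad

noncomputable section

variable {K : Type u} [Field K] {N : ℕ} {α : Type*}

/-- the maximal ideal of a point -/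
abbrev ptIdeal (x : Fin N → K) : Ideal (MvPolynomial (Fin N) K) := RingHom.ker (eval x)

theorem ptIdeal_isMaximal (x : Fin N → K) : (ptIdeal x).IsMaximal :=
  RingHom.ker_isMaximal_of_surjective _ fun c => ⟨C c, eval_C c⟩

theorem height_ptIdeal (x : Fin N → K) : (ptIdeal x).height = N :=
  (PrimeSpectrum.height_eq_orderHeight ⟨_, (ptIdeal_isMaximal x).isPrime⟩).trans
    (SmoothDim.height_maximal_mvPolynomial K N ⟨_, (ptIdeal_isMaximal x).isPrime⟩ (ptIdeal_isMaximal x))

theorem eval_eq_zero_of_homogeneous {p : MvPolynomial (Fin N) K} {e : ℕ} (hp : p.IsHomogeneous e) (he : 1 ≤ e) :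
    eval (0 : Fin N → K) p = 0 := by
  rw [eval_zero, constantCoeff_eq]
  exact hp.coeff_eq_zero (by simp; omega)

theorem eval_smul_homogeneous {p : MvPolynomial (Fin N) K} {e : ℕ} (hp : p.IsHomogeneous e) (c : K)
    (x : Fin N → K) : eval (c • x) p = c ^ e * eval x p := by
  rw [eval_eq, eval_eq, Finset.mul_sum]
  refine Finset.sum_congr rfl fun d hd => ?_
  have : ∑ i ∈ d.support, d i = e := by
    have h1 := hp (mem_support_iff.1 hd)
    simpa [Finsupp.weight_apply, Finsupp.sum] using h1
  rw [← this, ← Finset.prod_pow_eq_pow_sum]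
  simp only [Pi.smul_apply, smul_eq_mul, mul_pow, Finset.prod_mul_distrib]
  ring

/-- the minimal primes of a cone pass through the vertex -/
theorem minimalPrime_le_origin (f : α → MvPolynomial (Fin N) K) (hf : ∀ a, ∃ e, (f a).IsHomogeneous e)
    {Q : Ideal (MvPolynomial (Fin N) K)} (hQ : Q ∈ (Ideal.span (Set.range f)).minimalPrimes) :
    Q ≤ ptIdeal 0 := by
  letI := MvPolynomial.gradedAlgebra (σ := Fin N) (R := K)
  have hI : (Ideal.span (Set.range f)).IsHomogeneous (homogeneousSubmodule (Fin N) K) :=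
    Ideal.homogeneous_span _ _ (by
      rintro _ ⟨a, rfl⟩
      obtain ⟨e, he⟩ := hf a
      exact ⟨e, (mem_homogeneousSubmodule _ _).2 he⟩)
  have hcore : Q ≤ (Q.homogeneousCore (homogeneousSubmodule (Fin N) K)).toIdeal :=
    hQ.2 ⟨hQ.1.1.homogeneousCore, hI.toIdeal_homogeneousCore_eq_self.symm.trans_le
      (Ideal.homogeneousCore_mono _ hQ.1.2)⟩ (Ideal.toIdeal_homogeneousCore_le _ _)
  intro p hp
  have h0 := (Q.homogeneousCore (homogeneousSubmodule (Fin N) K)).isHomogeneous 0 (hcore hp)
  have h1 : homogeneousComponent 0 p ∈ Q := by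
    refine Ideal.toIdeal_homogeneousCore_le (homogeneousSubmodule (Fin N) K) Q ?_
    rw [← MvPolynomial.decomposition.decompose'_apply]
    exact h0
  rw [homogeneousComponent_zero] at h1
  by_contra hne
  refine hQ.1.1.ne_top (Ideal.eq_top_of_isUnit_mem _ h1 ((isUnit_iff_ne_zero.2 ?_).map C))
  intro h2
  apply hne
  show eval 0 p = 0
  rw [eval_zero, constantCoeff_eq, h2]

variable [IsAlgClosed K]

/-- A cone of dimension `> c` meets `c` hyperplanes through the vertex outside the vertex. -/
theorem exists_nonzero_zero (f : α → MvPolynomial (Fin N) K) (hf : ∀ a, ∃ e, (f a).IsHomogeneous e)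
    {Q : Ideal (MvPolynomial (Fin N) K)} [Q.IsPrime] (hQ : Ideal.span (Set.range f) ≤ Q)
    {c : ℕ} (hdim : Q.height + c < (N : ℕ∞)) (ℓ : Fin c → MvPolynomial (Fin N) K)
    (hℓ : ∀ i, eval 0 (ℓ i) = 0) :
    ∃ x : Fin N → K, x ≠ 0 ∧ (∀ a, eval x (f a) = 0) ∧ ∀ i, eval x (ℓ i) = 0 := by
  classical
  obtain ⟨Q0, hQ0, hQ0Q⟩ := Ideal.exists_minimalPrimes_le hQ
  haveI := hQ0.1.1
  by_contra hcon
  have hle : Q0 ≤ ptIdeal (0 : Fin N → K) := minimalPrime_le_origin f hf hQ0
  haveI hM : (ptIdeal (0 : Fin N → K)).IsMaximal := ptIdeal_isMaximal _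
  let s : Set (MvPolynomial (Fin N) K ⧸ Q0) := Set.range fun i => Ideal.Quotient.mk Q0 (ℓ i)
  haveI hMb : ((ptIdeal (0 : Fin N → K)).map (Ideal.Quotient.mk Q0)).IsPrime :=
    Ideal.map_isPrime_of_surjective Ideal.Quotient.mk_surjective (by rwa [Ideal.mk_ker])
  have hcomap : ((ptIdeal (0 : Fin N → K)).map (Ideal.Quotient.mk Q0)).comap (Ideal.Quotient.mk Q0) =
      ptIdeal 0 := by
    rw [Ideal.comap_map_of_surjective _ Ideal.Quotient.mk_surjective, ← RingHom.ker_eq_comap_bot, Ideal.mk_ker,
      sup_eq_left]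
    exact hle
  have hs : s ⊆ (ptIdeal (0 : Fin N → K)).map (Ideal.Quotient.mk Q0) := by
    rintro _ ⟨i, rfl⟩
    exact Ideal.mem_map_of_mem _ (hℓ i)
  have h1 := Ideal.height_le_height_add_encard_of_subset s hs
  have h2 : (((ptIdeal (0 : Fin N → K)).map (Ideal.Quotient.mk Q0)).map
      (Ideal.Quotient.mk (Ideal.span s))).height = 0 := by
    haveI : (((ptIdeal (0 : Fin N → K)).map (Ideal.Quotient.mk Q0)).map
        (Ideal.Quotient.mk (Ideal.span s))).IsPrime :=
      Ideal.map_isPrime_of_surjective Ideal.Quotient.mk_surjective (by rw [Ideal.mk_ker]; exact Ideal.span_le.2 hs)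
    rw [Ideal.height_eq_zero_iff]
    refine ⟨⟨inferInstance, bot_le⟩, fun P hP _ => ?_⟩
    haveI := hP.1
    let π := (Ideal.Quotient.mk (Ideal.span s)).comp (Ideal.Quotient.mk Q0)
    have hπ : ptIdeal (0 : Fin N → K) ≤ P.comap π := by
      have hP' : (P.comap π).IsPrime := Ideal.IsPrime.comap π
      refine le_trans ?_ hP'.radical.le
      rw [← vanishingIdeal_zeroLocus_eq_radical (K := K)]
      intro p hp
      rw [mem_vanishingIdeal_iff]
      intro x hx
      rw [aeval_eq_eval]
      have hz : ∀ q, Ideal.Quotient.mk Q0 q ∈ Ideal.span s → eval x q = 0 := fun q hq => by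
        have := mem_zeroLocus_iff.1 hx q (show π q ∈ P by
          rw [RingHom.comp_apply, Ideal.Quotient.eq_zero_iff_mem.2 hq]; exact zero_mem _)
        rwa [aeval_eq_eval] at this
      have hx0 : x = 0 := by
        by_contra hne
        refine hcon ⟨x, hne, fun a => hz _ ?_, fun i => hz _ (Ideal.subset_span ⟨i, rfl⟩)⟩
        rw [Ideal.Quotient.eq_zero_iff_mem.2 (hQ0.1.2 (Ideal.subset_span ⟨a, rfl⟩))]
        exact zero_mem _
      rw [hx0]
      exact hp
    rw [Ideal.map_map]
    exact (Ideal.map_mono hπ).trans Ideal.map_comap_le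
  rw [h2, zero_add] at h1
  have hA := VarDim.exists_dim_eq_trdeg K (MvPolynomial (Fin N) K ⧸ Q0)
  obtain ⟨D, hD, -⟩ := hA
  have hdimN : ringKrullDim (MvPolynomial (Fin N) K) = N := by
    rw [MvPolynomial.ringKrullDim_of_isNoetherianRing, ringKrullDim_eq_zero_of_field]; simp
  have e1 := VarDim.height_add_coheight_eq K N _ hdimN ⟨Q0, hQ0.1.1⟩
  rw [← WithBot.coe_inj, WithBot.coe_add, VarDim.coheight_eq_ringKrullDim_quotient, hD] at e1
  have hMQ : ((ptIdeal (0 : Fin N → K)).map (Ideal.Quotient.mk Q0)).IsMaximal := by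
    refine (Ideal.map_eq_top_or_isMaximal_of_surjective _ Ideal.Quotient.mk_surjective hM).resolve_left ?_
    exact hMb.ne_top
  have e2 := VarDim.height_add_coheight_eq K D _ hD ⟨_, hMb⟩
  have hco : Order.coheight (⟨_, hMb⟩ : PrimeSpectrum (MvPolynomial (Fin N) K ⧸ Q0)) = 0 :=
    Order.coheight_eq_zero.2 fun R hR => (PrimeSpectrum.ext (hMQ.eq_of_le R.isPrime.ne_top hR)).ge
  rw [hco, add_zero, ← PrimeSpectrum.height_eq_orderHeight] at e2
  have h1' : (D : ℕ∞) ≤ c := by
    rw [← e2]
    refine h1.trans ((Set.encard_le_encard Set.image_univ.ge).trans ?_)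
    refine (Set.encard_image_le _ _).trans ?_
    simp
  have hQ0le : Q0.height ≤ Q.height := Ideal.height_mono hQ0Q
  rw [← PrimeSpectrum.height_eq_orderHeight] at e1
  have e1' : Q0.height + (D : ℕ∞) = N := WithBot.coe_inj.1 (by exact_mod_cast e1)
  exact absurd (e1' ▸ hdim) (not_lt.2 (add_le_add hQ0le h1'))

variable (k : Type u) [Field k] [Infinite k] [Algebra k K]

omit [IsAlgClosed K] in
/-- linear forms with coefficients in a subfield avoid finitely many non-maximal primes -/
theorem exists_linForm_avoid {T : Set (Ideal (MvPolynomial (Fin N) K))} (hT : T.Finite)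
    (h : ∀ P ∈ T, P.IsPrime ∧ P.height < N) :
    ∃ l : Fin N → k, ∀ P ∈ T, (∑ t, C (algebraMap k K (l t)) * X t) ∉ P := by
  classical
  let sub : Ideal (MvPolynomial (Fin N) K) → Submodule k (Fin N → k) := fun P =>
    { carrier := {l | (∑ t, C (algebraMap k K (l t)) * X t) ∈ P}
      zero_mem' := by simp
      add_mem' := fun {a b} ha hb => by
        have e : ∑ t, C (algebraMap k K ((a + b) t)) * X t =
            (∑ t, C (algebraMap k K (a t)) * X t) + ∑ t, C (algebraMap k K (b t)) * X t := by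
          simp [add_mul, Finset.sum_add_distrib]
        show _ ∈ P
        rw [e]; exact add_mem ha hb
      smul_mem' := fun c a ha => by
        have e : ∑ t, C (algebraMap k K ((c • a) t)) * X t =
            C (algebraMap k K c) * ∑ t, C (algebraMap k K (a t)) * X t := by
          simp [Finset.mul_sum, mul_assoc]
        show _ ∈ P
        rw [e]; exact Ideal.mul_mem_left _ _ ha }
  have hne : ∀ P ∈ T, sub P ≠ ⊤ := fun P hP htop => by
    obtain ⟨hPp, hPh⟩ := h P hP
    have hX : ∀ t, (MvPolynomial.X t : MvPolynomial (Fin N) K) ∈ P := fun t => by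
      have : Pi.single t 1 ∈ sub P := htop ▸ Submodule.mem_top
      have e : (∑ s, C (algebraMap k K ((Pi.single t 1 : Fin N → k) s)) * X s : MvPolynomial (Fin N) K) = X t := by
        simp [Pi.single_apply, apply_ite (algebraMap k K), apply_ite (C (σ := Fin N) (R := K))]
      exact e ▸ this
    have hle : ptIdeal (0 : Fin N → K) ≤ P := by
      intro p hp
      have hp0 : constantCoeff p = 0 := by rw [← eval_zero]; exact hp
      rw [p.as_sum]
      refine Ideal.sum_mem _ fun m hm => ?_
      obtain ⟨t, ht⟩ : ∃ t, m t ≠ 0 := by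
        by_contra! hz
        exact mem_support_iff.1 hm (by rw [show m = 0 from Finsupp.ext hz, ← constantCoeff_eq]; exact hp0)
      obtain ⟨q, hq⟩ : (MvPolynomial.X t : MvPolynomial (Fin N) K) ∣ monomial m (coeff m p) :=
        X_dvd_monomial.2 (Or.inr ht)
      rw [hq]
      exact Ideal.mul_mem_right _ _ (hX t)
    exact hPh.ne (((ptIdeal_isMaximal 0).eq_of_le hPp.ne_top hle) ▸ height_ptIdeal 0)
  haveI : Fintype T := hT.fintype
  obtain ⟨l, hl⟩ := (Set.ne_univ_iff_exists_notMem _).1
    (Subspace.biUnion_ne_univ_of_top_notMem (k := k) (E := Fin N → k) (s := T.toFinset.image sub) (by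
      simp only [Finset.mem_image, Set.mem_toFinset, not_exists, not_and]
      exact hne))
  refine ⟨l, fun P hP hmem => hl ?_⟩
  simp only [Set.mem_iUnion]
  exact ⟨sub P, Finset.mem_image.2 ⟨P, Set.mem_toFinset.2 hP, rfl⟩, hmem⟩

/-- linear forms with coefficients in a subfield cut a cone of dimension `≤ c` down to the vertex -/
theorem exists_linForms (f : α → MvPolynomial (Fin N) K) (hf : ∀ a, ∃ e, (f a).IsHomogeneous e) {h : ℕ}
    (hh : ∀ P : Ideal (MvPolynomial (Fin N) K), P.IsPrime → Ideal.span (Set.range f) ≤ P → (h : ℕ∞) ≤ P.height)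
    {c : ℕ} (hc : N ≤ h + c) :
    ∃ l : Fin c → Fin N → k, ∀ x : Fin N → K, (∀ a, eval x (f a) = 0) →
      (∀ i, ∑ t, algebraMap k K (l i t) * x t = 0) → x = 0 := by
  classical
  let lf : (Fin N → k) → MvPolynomial (Fin N) K := fun l => ∑ t, C (algebraMap k K (l t)) * X t
  have step : ∀ c', ∃ l : Fin c' → Fin N → k, ∀ P : Ideal (MvPolynomial (Fin N) K), P.IsPrime →
      Ideal.span (Set.range f) ≤ P → (∀ i, lf (l i) ∈ P) → (min (h + c') N : ℕ∞) ≤ P.height := by
    intro c'
    induction c' with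
    | zero => exact ⟨Fin.elim0, fun P hP hle _ => le_trans (min_le_left _ _) (by simpa using hh P hP hle)⟩
    | succ c' ih =>
      obtain ⟨l, hl⟩ := ih
      let J := Ideal.span (Set.range f ∪ Set.range fun i => lf (l i))
      let T := {P | P ∈ J.minimalPrimes ∧ P.height < (N : ℕ∞)}
      have hTfin : T.Finite := (Ideal.finite_minimalPrimes_of_isNoetherianRing _ J).subset fun P hP => hP.1
      obtain ⟨l', hl'⟩ := exists_linForm_avoid (K := K) k hTfin fun P hP => ⟨hP.1.1.1, hP.2⟩
      refine ⟨Fin.snoc l l', fun P hP hle hmem => ?_⟩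
      have hJP : J ≤ P := Ideal.span_le.2 (Set.union_subset (fun q hq => hle (Ideal.subset_span hq)) (by
        rintro _ ⟨i, rfl⟩
        have := hmem i.castSucc
        simpa using this))
      obtain ⟨Z, hZ, hZP⟩ := Ideal.exists_minimalPrimes_le hJP
      haveI := hZ.1.1
      have hZh : (min (h + c') N : ℕ∞) ≤ Z.height := hl Z hZ.1.1 (fun q hq => hZ.1.2 (Ideal.span_mono
        Set.subset_union_left hq)) fun i => hZ.1.2 (Ideal.subset_span (Or.inr ⟨i, rfl⟩))
      by_cases hN : Z.height < N
      · have hne : Z ≠ P := fun e => by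
          refine hl' Z ⟨hZ, hN⟩ ?_
          have := hmem (Fin.last c')
          rw [Fin.snoc_last] at this
          exact e ▸ this
        have h3 := Ideal.height_add_one_le_of_lt_of_isPrime (lt_of_le_of_ne hZP hne)
        refine le_trans ?_ ((add_le_add hZh le_rfl).trans h3)
        rw [← min_add_add_right, Nat.cast_succ, ← add_assoc]
        exact min_le_min le_rfl le_self_add
      · exact le_trans (min_le_right _ _) ((not_lt.1 hN).trans (Ideal.height_mono hZP))
  obtain ⟨l, hl⟩ := step c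
  refine ⟨l, fun x hfx hlx => ?_⟩
  by_contra hx
  have hlx' : ∀ i, eval x (lf (l i)) = 0 := fun i => by
    show eval x (∑ t, C (algebraMap k K (l i t)) * X t) = 0
    rw [map_sum, ← hlx i]
    exact Finset.sum_congr rfl fun t _ => by rw [map_mul, eval_C, eval_X]
  -- the line through `x`
  let ev : MvPolynomial (Fin N) K →ₐ[K] Polynomial K := aeval fun t => Polynomial.C (x t) * Polynomial.X
  have hev : ∀ (p : MvPolynomial (Fin N) K) (s : K), (ev p).eval s = eval (s • x) p := fun p s => by
    rw [← Polynomial.coe_aeval_eq_eval, ← AlgHom.comp_apply, comp_aeval, aeval_eq_eval]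
    exact congrArg (fun u => eval u p) (funext fun t => by
      rw [map_mul, Polynomial.aeval_C, Polynomial.aeval_X, Pi.smul_apply, smul_eq_mul, mul_comm]
      rfl)
  have hhom : ∀ p : MvPolynomial (Fin N) K, (∃ e, p.IsHomogeneous e) → eval x p = 0 → ev p = 0 :=
    fun p ⟨e, he⟩ hp => Polynomial.funext fun s => by
      rw [hev, eval_smul_homogeneous he, hp, mul_zero, Polynomial.eval_zero]
  have hP : (RingHom.ker ev).IsPrime := RingHom.ker_isPrime _
  have hle : RingHom.ker ev ≤ ptIdeal x := fun p hp => by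
    show eval x p = 0
    rw [← one_smul K x, ← hev, RingHom.mem_ker.1 hp, Polynomial.eval_zero]
  have hne : RingHom.ker ev ≠ ptIdeal x := fun e => by
    obtain ⟨t, ht⟩ := Function.ne_iff.1 hx
    have hmem : X t - C (x t) ∈ RingHom.ker ev := by rw [e]; simp
    have := congrArg (Polynomial.eval 0) (RingHom.mem_ker.1 hmem)
    rw [hev] at this
    simp at this
    exact ht this
  have h1 := hl _ hP (Ideal.span_le.2 (by rintro _ ⟨a, rfl⟩; exact hhom _ (hf a) (hfx a))) fun i =>
    hhom _ ⟨1, IsHomogeneous.sum _ _ _ fun t _ => isHomogeneous_C_mul_X _ _⟩ (hlx' i)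
  haveI := (ptIdeal_isMaximal x).isPrime
  have h2 := Ideal.height_add_one_le_of_lt_of_isPrime (J := ptIdeal x) (lt_of_le_of_ne hle hne)
  rw [height_ptIdeal] at h2
  rw [min_eq_right (by exact_mod_cast hc)] at h1
  have h3 := (add_le_add h1 (le_refl 1)).trans h2
  exact absurd h3 (by exact_mod_cast Nat.not_succ_le_self N)

end

end Groth.Agent.CIBad
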