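import Groth.Agent.CIBad.Cone
import Groth.Agent.AVSquare.Algebra
import Mathlib.RingTheory.TensorProduct.MvPolynomial
import Mathlib.RingTheory.AlgebraicIndependent.TranscendenceBasis
import Mathlib.FieldTheory.AlgebraicClosure
import Mathlib.FieldTheory.IntermediateField.Adjoin.Basic

/-!
# Tuples of forms with too small an intersection
-/

universe u

open MvPolynomial

namespace Groth.Agent.CIBad

noncomputable section

section Acl

variable (k : Type u) [Field k] {K : Type u} [Field K] [Algebra k K]

/-- algebraic dependence on a set -/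
def AlgOver (S : Set K) (x : K) : Prop := IsAlgebraic (IntermediateField.adjoin k S) x

theorem algOver_self {S : Set K} {x : K} (hx : x ∈ S) : AlgOver k S x :=
  isAlgebraic_algebraMap (⟨x, IntermediateField.subset_adjoin k S hx⟩ : IntermediateField.adjoin k S)

theorem algOver_mono {S T : Set K} (h : S ⊆ T) {x : K} (hx : AlgOver k S x) : AlgOver k T x :=
  IsAlgebraic.tower_top_of_subalgebra_le
    (A := (IntermediateField.adjoin k S).toSubalgebra) (B := (IntermediateField.adjoin k T).toSubalgebra)
    (IntermediateField.adjoin.mono k S T h) hx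

/-- the elements algebraic over a set form a field -/
def acl (S : Set K) : IntermediateField k K :=
  (algebraicClosure (IntermediateField.adjoin k S) K).restrictScalars k

theorem mem_acl {S : Set K} {x : K} : x ∈ acl k S ↔ AlgOver k S x :=
  mem_algebraicClosure_iff

end Acl

variable {k : Type u} [Field k] [Infinite k] {K : Type u} [Field K] [IsAlgClosed K] [Algebra k K]

/-- A too large intersection fails to be complete at some step. -/
theorem exists_step {N d : ℕ} (g : Fin d → MvPolynomial (Fin N) K) (hg : ∀ j, ∃ e, (g j).IsHomogeneous e)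
    (hbad : ∀ l : Fin (N - d) → Fin N → k, ∃ x : Fin N → K, x ≠ 0 ∧ (∀ j, eval x (g j) = 0) ∧
      ∀ i, ∑ t, algebraMap k K (l i t) * x t = 0) :
    ∃ (j : Fin d) (Z : Ideal (MvPolynomial (Fin N) K)),
      Z ∈ (Ideal.span (Set.range fun i : {i : Fin d // i < j} => g i)).minimalPrimes ∧ g j ∈ Z ∧
        Z.height ≤ (j : ℕ) := by
  by_contra hno
  push Not at hno
  have key : ∀ j, j ≤ d → ∀ P : Ideal (MvPolynomial (Fin N) K), P.IsPrime →
      (∀ i : Fin d, i.1 < j → g i ∈ P) → (j : ℕ∞) ≤ P.height := by
    intro j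
    induction j with
    | zero => intros; simp
    | succ j ih =>
      intro hj P hP hmem
      obtain ⟨Z, hZ, hZP⟩ := Ideal.exists_minimalPrimes_le
        (I := Ideal.span (Set.range fun i : {i : Fin d // i < (⟨j, hj⟩ : Fin d)} => g i)) (J := P) (by
          rw [Ideal.span_le]
          rintro _ ⟨⟨i, hi⟩, rfl⟩
          exact hmem i (Nat.lt_succ_of_lt hi))
      haveI := hZ.1.1
      have h1 := ih (by omega) Z hZ.1.1 fun i hi => hZ.1.2 (Ideal.subset_span ⟨⟨i, hi⟩, rfl⟩)
      by_cases hgZ : g ⟨j, hj⟩ ∈ Z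
      · have h2 := hno ⟨j, hj⟩ Z hZ hgZ
        rw [Nat.cast_succ]
        exact ((ENat.add_one_le_iff (ENat.coe_ne_top j)).2 h2).trans (Ideal.height_mono hZP)
      · have h3 := Ideal.height_add_one_le_of_lt_of_isPrime (lt_of_le_of_ne hZP fun e =>
          hgZ (e ▸ hmem ⟨j, hj⟩ (Nat.lt_succ_self j)))
        rw [Nat.cast_succ]
        exact (add_le_add h1 le_rfl).trans h3
  obtain ⟨l, hl⟩ := exists_linForms k g hg (h := d)
    (fun P hP hle => key d le_rfl P hP fun i _ => hle (Ideal.subset_span ⟨i, rfl⟩)) (c := N - d) (by omega)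
  obtain ⟨x, hx, h1, h2⟩ := hbad l
  exact hx (hl x h1 h2)

section Descend

variable {F : Type u} [Field F] [IsAlgClosed F] [Algebra F K]

omit [IsAlgClosed K] in
theorem isPrime_map_coeff {N : ℕ} (P : Ideal (MvPolynomial (Fin N) F)) [P.IsPrime] :
    (P.map (MvPolynomial.map (algebraMap F K) : MvPolynomial (Fin N) F →+* MvPolynomial (Fin N) K)).IsPrime := by
  let e : TensorProduct F (MvPolynomial (Fin N) F) K ≃+* MvPolynomial (Fin N) K :=
    (Algebra.TensorProduct.comm F (MvPolynomial (Fin N) F) K).toRingEquiv.trans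
      (MvPolynomial.algebraTensorAlgEquiv (σ := Fin N) F K).toRingEquiv
  have he : (MvPolynomial.map (algebraMap F K) : MvPolynomial (Fin N) F →+* MvPolynomial (Fin N) K) =
      e.toRingHom.comp Algebra.TensorProduct.includeLeftRingHom := RingHom.ext fun p => by
    simp [e]
  rw [he, ← Ideal.map_map]
  haveI := AVSquare.isPrime_map_includeLeft (k := F) (D := K) P
  exact Ideal.map_isPrime_of_equiv e

omit [IsAlgClosed K] in
/-- minimal primes of equations over an algebraically closed subfield are defined over it -/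
theorem exists_descend {N : ℕ} {α : Type*} (f₀ : α → MvPolynomial (Fin N) F)
    {Z : Ideal (MvPolynomial (Fin N) K)}
    (hZ : Z ∈ (Ideal.span (Set.range fun a => MvPolynomial.map (algebraMap F K) (f₀ a))).minimalPrimes) :
    ∃ Z₀ : Ideal (MvPolynomial (Fin N) F), Z₀.IsPrime ∧ Z = Z₀.map (MvPolynomial.map (algebraMap F K)) := by
  haveI := hZ.1.1
  let f : MvPolynomial (Fin N) F →+* MvPolynomial (Fin N) K := MvPolynomial.map (algebraMap F K)
  obtain ⟨Z₀, hZ₀, hle⟩ := Ideal.exists_minimalPrimes_le (I := Ideal.span (Set.range f₀)) (J := Z.comap f) (by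
    rw [Ideal.span_le]
    rintro _ ⟨a, rfl⟩
    exact hZ.1.2 (Ideal.subset_span ⟨a, rfl⟩))
  haveI := hZ₀.1.1
  have hle' : Z₀.map f ≤ Z := Ideal.map_le_iff_le_comap.2 hle
  refine ⟨Z₀, hZ₀.1.1, le_antisymm (hZ.2 ⟨isPrime_map_coeff Z₀, ?_⟩ hle') hle'⟩
  rw [Ideal.span_le]
  rintro _ ⟨a, rfl⟩
  exact Ideal.mem_map_of_mem _ (hZ₀.1.2 (Ideal.subset_span ⟨a, rfl⟩))

/-- monomials of a degree in enough variables -/
theorem exists_monomials {N e j : ℕ} (he : N ≤ e + j) (he2 : 2 ≤ e) (y : Fin e → Fin N) (hy : Function.Injective y) :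
    ∃ w : Fin N → (Fin e →₀ ℕ), Function.Injective (fun a => (w a).mapDomain y) ∧
      ∀ a, ((w a).mapDomain y).degree = j + 1 := by
  classical
  let y0 : Fin e := ⟨0, by omega⟩
  let y1 : Fin e := ⟨1, by omega⟩
  let w : Fin N → (Fin e →₀ ℕ) := fun a =>
    if h : a.1 < e then Finsupp.single ⟨a.1, h⟩ (j + 1)
    else Finsupp.single y0 (a.1 - e + 1) + Finsupp.single y1 (j + 1 - (a.1 - e + 1))
  refine ⟨w, fun a b hab => ?_, fun a => ?_⟩
  · have hab' : w a = w b := Finsupp.mapDomain_injective hy hab
    have h0 := DFunLike.congr_fun hab' y0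
    have h1 := DFunLike.congr_fun hab' y1
    refine Fin.ext ?_
    have ha := a.2
    have hb := b.2
    by_cases hae : a.1 < e <;> by_cases hbe : b.1 < e <;>
      simp only [w, hae, hbe, dite_true, dite_false] at hab' h0 h1
    · by_contra hne
      have h2 := DFunLike.congr_fun hab' ⟨a.1, hae⟩
      rw [Finsupp.single_eq_same, Finsupp.single_apply] at h2
      split_ifs at h2 with heq
      exact hne (congrArg Fin.val heq).symm
    · exfalso
      simp only [y0, y1, Finsupp.add_apply, Finsupp.single_apply, Fin.ext_iff] at h0 h1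
      split_ifs at h0 h1 <;> omega
    · exfalso
      simp only [y0, y1, Finsupp.add_apply, Finsupp.single_apply, Fin.ext_iff] at h0 h1
      split_ifs at h0 h1 <;> omega
    · have hne : y1 ≠ y0 := fun h => absurd (congrArg Fin.val h) (by simp [y0, y1])
      simp only [Finsupp.add_apply, Finsupp.single_eq_same, Finsupp.single_eq_of_ne hne.symm, add_zero] at h0
      omega
  · have hm : ((w a).mapDomain y).degree = (w a).degree := by
      rw [Finsupp.degree_eq_sum, Finsupp.degree_eq_sum, ← Finset.sum_subset (Finset.subset_univ (Finset.univ.image y))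
        (fun t _ ht => Finsupp.mapDomain_notin_range _ _ (by simpa using ht)),
        Finset.sum_image fun p _ q _ h => hy h]
      exact Finset.sum_congr rfl fun p _ => Finsupp.mapDomain_apply hy _ _
    rw [hm]
    have := a.2
    simp only [w]
    split_ifs with h
    · simp [Finsupp.degree_single]
    · simp only [map_add, Finsupp.degree_single]
      omega

omit [IsAlgClosed K] in
/-- Degree `j + 1` coefficients of a member of a prime of height `≤ j` defined over `F` are dependent over `F`. -/
theorem exists_relations {N j : ℕ} (hj : j + 2 ≤ N) (Z₀ : Ideal (MvPolynomial (Fin N) F)) [Z₀.IsPrime]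
    (hh : (Z₀.map (MvPolynomial.map (algebraMap F K))).height ≤ (j : ℕ∞)) :
    ∃ u : Fin N → (Fin N →₀ ℕ), Function.Injective u ∧ (∀ a, (u a).degree = j + 1) ∧
      ∀ p ∈ Z₀.map (MvPolynomial.map (algebraMap F K)), ∀ a,
        coeff (u a) p ∈ Submodule.span F ((fun t => coeff t p) '' (Set.range u)ᶜ) := by
  classical
  let Z := Z₀.map (MvPolynomial.map (algebraMap F K) : MvPolynomial (Fin N) F →+* MvPolynomial (Fin N) K)
  haveI hZp : Z.IsPrime := isPrime_map_coeff Z₀
  -- independent variables
  obtain ⟨D, hD, hDt⟩ := VarDim.exists_dim_eq_trdeg K (MvPolynomial (Fin N) K ⧸ Z)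
  have hdimN : ringKrullDim (MvPolynomial (Fin N) K) = N := by
    rw [MvPolynomial.ringKrullDim_of_isNoetherianRing, ringKrullDim_eq_zero_of_field]; simp
  have e1 := VarDim.height_add_coheight_eq K N _ hdimN ⟨Z, hZp⟩
  rw [← WithBot.coe_inj, WithBot.coe_add, VarDim.coheight_eq_ringKrullDim_quotient, hD,
    ← PrimeSpectrum.height_eq_orderHeight] at e1
  have e1' : Z.height + (D : ℕ∞) = N := WithBot.coe_inj.1 (by exact_mod_cast e1)
  have hDN : N ≤ D + j := by
    have : (N : ℕ∞) ≤ j + D := e1' ▸ add_le_add hh le_rfl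
    have : N ≤ j + D := by exact_mod_cast this
    omega
  let xb : Fin N → MvPolynomial (Fin N) K ⧸ Z := fun t => Ideal.Quotient.mkₐ K Z (X t)
  have hadj : Algebra.adjoin K (Set.range xb) = ⊤ := by
    rw [Set.range_comp' (Ideal.Quotient.mkₐ K Z) (X : Fin N → MvPolynomial (Fin N) K), ← AlgHom.map_adjoin,
      MvPolynomial.adjoin_range_X, Algebra.map_top, AlgHom.range_eq_top]
    exact Ideal.Quotient.mkₐ_surjective K Z
  haveI : Algebra.IsAlgebraic (Algebra.adjoin K (Set.range xb)) (MvPolynomial (Fin N) K ⧸ Z) :=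
    ⟨fun z => isAlgebraic_algebraMap (⟨z, hadj ▸ Algebra.mem_top⟩ : Algebra.adjoin K (Set.range xb))⟩
  obtain ⟨T, hTs, hT⟩ := exists_isTranscendenceBasis_subset (R := K) (Set.range xb)
  have hTfin : T.Finite := (Set.finite_range xb).subset hTs
  haveI : Fintype T := hTfin.fintype
  have hcard : Fintype.card T = D := by
    have := hT.cardinalMk_eq_trdeg
    rw [hDt, Cardinal.mk_fintype] at this
    exact_mod_cast this
  let eT : Fin D ≃ T := (Fintype.equivFinOfCardEq hcard).symm
  choose y hy using fun q : Fin D => hTs (eT q).2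
  have hyi : Function.Injective y := fun p q h => eT.injective (Subtype.ext (by rw [← hy p, ← hy q, h]))
  have hind : AlgebraicIndependent K fun q => xb (y q) := by
    have := hT.1.comp eT eT.injective
    simpa only [Function.comp_def, ← hy] using this
  obtain ⟨w, hwi, hwd⟩ := exists_monomials hDN (by omega) y hyi
  -- independence over the small field
  let π := Ideal.Quotient.mkₐ F Z₀
  let c : MvPolynomial (Fin N) F ⧸ Z₀ →+* MvPolynomial (Fin N) K ⧸ Z :=
    Ideal.quotientMap Z (MvPolynomial.map (algebraMap F K)) Ideal.le_comap_map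
  have hli : LinearIndependent F fun a => π (monomial ((w a).mapDomain y) 1) := by
    rw [Fintype.linearIndependent_iff]
    intro cf hcf a
    have h1 : aeval (fun q => xb (y q)) (∑ b, monomial (w b) (algebraMap F K (cf b))) = 0 := by
      have hmk : ∀ p, aeval (fun q => xb (y q)) p = Ideal.Quotient.mkₐ K Z (rename y p) := fun p =>
        AlgHom.congr_fun (MvPolynomial.algHom_ext (f := aeval fun q => xb (y q))
          (g := (Ideal.Quotient.mkₐ K Z).comp (rename y)) fun q => by simp [xb]) p
      rw [hmk]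
      have h2 := congrArg c hcf
      simp only [map_sum, map_zero, map_smul] at h2
      rw [← h2, map_sum, map_sum]
      refine Finset.sum_congr rfl fun b _ => ?_
      rw [rename_monomial]
      rw [← map_smul π]
      show Ideal.Quotient.mk Z _ = c (Ideal.Quotient.mk Z₀ _)
      rw [Ideal.quotientMap_mk, smul_monomial, smul_eq_mul, mul_one, map_monomial]
    have h3 : (∑ b, monomial (w b) (algebraMap F K (cf b))) = 0 := hind.eq_zero_of_aeval_eq_zero _ h1
    have hwinj : Function.Injective w := fun p q h => hwi (congrArg (Finsupp.mapDomain y) h)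
    have := congrArg (coeff (w a)) h3
    simp only [coeff_sum, coeff_monomial, hwinj.eq_iff, Finset.sum_ite_eq', Finset.mem_univ, if_true,
      coeff_zero] at this
    exact (map_eq_zero (algebraMap F K)).1 this
  obtain ⟨φ, hφ⟩ := (Fintype.linearCombination F fun a => π (monomial ((w a).mapDomain y) 1)).exists_leftInverse_of_injective
    (LinearMap.ker_eq_bot.2 hli.fintypeLinearCombination_injective)
  let ψ : Fin N → MvPolynomial (Fin N) F →ₗ[F] F := fun a => (LinearMap.proj a).comp (φ.comp π.toLinearMap)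
  have hψ : ∀ a b, ψ a (monomial ((w b).mapDomain y) 1) = if a = b then 1 else 0 := fun a b => by
    have := LinearMap.congr_fun hφ (Pi.single b 1)
    rw [LinearMap.comp_apply, Fintype.linearCombination_apply_single, one_smul] at this
    show φ (π (monomial ((w b).mapDomain y) 1)) a = _
    rw [this, LinearMap.id_apply, Pi.single_apply]
  refine ⟨fun a => (w a).mapDomain y, hwi, hwd, fun p hp a => ?_⟩
  let Ψ : MvPolynomial (Fin N) K →ₗ[K] K :=
    (basisMonomials (Fin N) K).constr K fun t => algebraMap F K (ψ a (monomial t 1))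
  have hΨm : ∀ t c, Ψ (monomial t c) = c * algebraMap F K (ψ a (monomial t 1)) := fun t c => by
    rw [show monomial t c = c • basisMonomials (Fin N) K t by rw [coe_basisMonomials, smul_monomial, smul_eq_mul, mul_one],
      map_smul, Module.Basis.constr_basis, smul_eq_mul]
  have hΨmap : ∀ z : MvPolynomial (Fin N) F, Ψ (MvPolynomial.map (algebraMap F K) z) = algebraMap F K (ψ a z) :=
    fun z => by
      conv_lhs => rw [z.as_sum, map_sum, map_sum]
      conv_rhs => rw [z.as_sum, map_sum, map_sum]
      refine Finset.sum_congr rfl fun t _ => ?_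
      rw [map_monomial, hΨm, ← map_mul]
      congr 1
      rw [show monomial t (coeff t z) = coeff t z • monomial t 1 by rw [smul_monomial, smul_eq_mul, mul_one],
        map_smul, smul_eq_mul]
  have hzero : ∀ q, Ψ (q * p) = 0 := by
    unfold Z at *
    rw [Ideal.map] at hp
    induction hp using Submodule.span_induction with
    | mem z hz =>
      obtain ⟨z0, hz0, rfl⟩ := hz
      intro q
      rw [q.as_sum, Finset.sum_mul, map_sum]
      refine Finset.sum_eq_zero fun t _ => ?_
      have e : monomial t (coeff t q) * MvPolynomial.map (algebraMap F K) z0 =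
          coeff t q • MvPolynomial.map (algebraMap F K) (monomial t 1 * z0) := by
        rw [map_mul, map_monomial, map_one, ← smul_mul_assoc, smul_monomial, smul_eq_mul, mul_one]
      rw [e, map_smul, hΨmap]
      have : π (monomial t 1 * z0) = 0 := Ideal.Quotient.eq_zero_iff_mem.2 (Ideal.mul_mem_left _ _ hz0)
      show coeff t q • algebraMap F K (φ (π (monomial t 1 * z0)) a) = 0
      rw [this, map_zero, Pi.zero_apply, map_zero, smul_zero]
    | zero => intro q; rw [mul_zero, map_zero]
    | add x y _ _ hx hy => intro q; rw [mul_add, map_add, hx, hy, add_zero]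
    | smul r x _ hx => intro q; rw [smul_eq_mul, ← mul_assoc]; exact hx _
  have h0 := hzero 1
  rw [one_mul, p.as_sum, map_sum] at h0
  simp only [hΨm] at h0
  set U := Set.range fun a => (w a).mapDomain y
  have hsplit : ∑ t ∈ p.support, coeff t p * algebraMap F K (ψ a (monomial t 1)) =
      coeff ((w a).mapDomain y) p +
        ∑ t ∈ p.support.filter (fun t => t ∉ U), coeff t p * algebraMap F K (ψ a (monomial t 1)) := by
    rw [← Finset.sum_filter_add_sum_filter_not p.support (fun t => t ∈ U)]
    congr 1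
    rw [Finset.sum_eq_single ((w a).mapDomain y)]
    · rw [hψ, if_pos rfl, map_one, mul_one]
    · intro t ht hne
      obtain ⟨b, rfl⟩ := (Finset.mem_filter.1 ht).2
      rw [hψ, if_neg (fun e => hne (by subst e; rfl)), map_zero, mul_zero]
    · intro hn
      have : coeff ((w a).mapDomain y) p = 0 := by
        by_contra hc
        exact hn (Finset.mem_filter.2 ⟨mem_support_iff.2 hc, a, rfl⟩)
      rw [this, zero_mul]
  rw [hsplit, add_eq_zero_iff_eq_neg] at h0
  rw [h0]
  refine Submodule.neg_mem _ (Submodule.sum_mem _ fun t ht => ?_)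
  rw [mul_comm, ← Algebra.smul_def]
  exact Submodule.smul_mem _ _ (Submodule.subset_span ⟨t, (Finset.mem_filter.1 ht).2, rfl⟩)

end Descend

/-- Bad tuples have dependent coefficients. -/
theorem exists_dependent {N d : ℕ} (hdN : d + 1 ≤ N) (g : Fin d → MvPolynomial (Fin N) K)
    (hg : ∀ j : Fin d, (g j).IsHomogeneous (j.1 + 1))
    (hbad : ∀ l : Fin (N - d) → Fin N → k, ∃ x : Fin N → K, x ≠ 0 ∧ (∀ j, eval x (g j) = 0) ∧
      ∀ i, ∑ t, algebraMap k K (l i t) * x t = 0) :
    ∃ (j : Fin d) (u : Fin N → (Fin N →₀ ℕ)), Function.Injective u ∧ (∀ a, (u a).degree = j.1 + 1) ∧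
      ∀ a, AlgOver k
        {c | ∃ (i : Fin d) (t : Fin N →₀ ℕ), (i ≠ j ∨ t ∉ Set.range u) ∧ c = coeff t (g i)}
        (coeff (u a) (g j)) := by
  classical
  obtain ⟨j, Z, hZ, hgZ, hh⟩ := exists_step g (fun j => ⟨_, hg j⟩) hbad
  let S0 : Set K := {c | ∃ (i : Fin d) (t : Fin N →₀ ℕ), i < j ∧ c = coeff t (g i)}
  let F := algebraicClosure (IntermediateField.adjoin k S0) K
  haveI : IsAlgClosed F := IsAlgClosure.isAlgClosed (IntermediateField.adjoin k S0)
  have hlift : ∀ i : {i : Fin d // i < j}, ∃ f : MvPolynomial (Fin N) F, MvPolynomial.map (algebraMap F K) f = g i := by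
    intro i
    have : g i.1 ∈ Set.range (MvPolynomial.map (algebraMap F K) : MvPolynomial (Fin N) F → MvPolynomial (Fin N) K) := by
      erw [mem_range_map_iff_coeffs_subset]
      intro c hc
      obtain ⟨t, -, rfl⟩ := mem_coeffs_iff.1 hc
      exact ⟨⟨coeff t (g i.1), mem_algebraicClosure_iff.2 (algOver_self k (S := S0) ⟨i.1, t, i.2, rfl⟩)⟩, rfl⟩
    exact this
  choose f hf using hlift
  have hrange : (fun a : {i : Fin d // i < j} => MvPolynomial.map (algebraMap F K) (f a)) = fun a => g a.1 :=
    funext hf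
  obtain ⟨Z₀, hZ₀, rfl⟩ := exists_descend f (Z := Z) (by rwa [hrange])
  haveI := hZ₀
  obtain ⟨u, hu, hud, hrel⟩ := exists_relations (K := K) (j := j.1) (by omega) Z₀ hh
  refine ⟨j, u, hu, hud, fun a => ?_⟩
  set Γ := {c | ∃ (i : Fin d) (t : Fin N →₀ ℕ), (i ≠ j ∨ t ∉ Set.range u) ∧ c = coeff t (g i)}
  rw [← mem_acl]
  have hF : ∀ x : F, (x : K) ∈ acl k Γ := fun x => (mem_acl k).2
    (algOver_mono k (S := S0) (T := Γ) (fun c ⟨i, t, hi, hc⟩ => ⟨i, t, Or.inl hi.ne, hc⟩) (mem_algebraicClosure_iff.1 x.2))
  have h := hrel _ hgZ a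
  refine Submodule.span_induction (p := fun x _ => x ∈ acl k Γ) ?_ (zero_mem _) (fun _ _ _ _ => add_mem)
    (fun r x _ hx => ?_) h
  · rintro _ ⟨t, ht, rfl⟩
    exact (mem_acl k).2 (algOver_self k ⟨j, t, Or.inr ht, rfl⟩)
  · rw [Algebra.smul_def]
    exact mul_mem (hF r) hx

end

end Groth.Agent.CIBad
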